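import Groth.Agent.S4414
import Groth.Agent.TMul.AmpleComp
import Groth.Agent.TMul.RelAmple
import Groth.Agent.FieldAmple.Basic
import Groth.Agent.ProjMor.ProjSpaceBase
import Mathlib.AlgebraicGeometry.Morphisms.LocalFlatDescent
import Mathlib.AlgebraicGeometry.Morphisms.FlatDescent

/-!
Quasi-projective and projective schemes over a base with an ample sheaf.
-/

universe u

open CategoryTheory CategoryTheory.Limits AlgebraicGeometry

set_option autoImplicit false
set_option maxHeartbeats 1000000
set_option backward.isDefEq.respectTransparency false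
set_option backward.isDefEq.respectTransparency.types false
set_option linter.style.haveILetI false

noncomputable section

namespace Groth.Agent.QProjRows

variable {X S : Scheme.{u}} (f : X ⟶ S)

theorem isRelAmple_of_isAmple [S.IsSeparated] {L : X.Modules} (h : CohB1.IsAmple L) :
    RelAmple.IsRelAmple f L := by
  haveI := h.2.1
  haveI : QuasiCompact (f ≫ terminal.from S) := by
    rw [terminal.comp_from]; exact quasiCompact_of_compactSpace _
  haveI : QuasiCompact f := QuasiCompact.of_comp f (terminal.from S)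
  refine ⟨inferInstance, fun W => ?_⟩
  haveI : IsAffine W.1.toScheme := W.2
  haveI : IsAffineHom (W.1.ι ≫ terminal.from S) := by
    rw [terminal.comp_from]; exact isAffineHom_of_isAffine _
  haveI : IsAffineHom W.1.ι := MorphismProperty.of_postcomp (W := @IsAffineHom) (W' := @IsSeparated) _
    (terminal.from S) inferInstance inferInstance
  haveI : IsAffineHom (f ⁻¹ᵁ W.1).ι :=
    MorphismProperty.of_isPullback (P := @IsAffineHom) (isPullback_morphismRestrict f W.1) ‹_›
  exact TMul.isAmple_congr ((Scheme.Modules.restrictFunctorIsoPullback _).app L).symm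
    (TMul.isAmple_pullback_of_isAffineHom (f ⁻¹ᵁ W.1).ι h)

theorem exists_isAmple_of_isRelAmple (hS : ∃ N : S.Modules, CohB1.IsAmple N) {L : X.Modules}
    (h : RelAmple.IsRelAmple f L) : ∃ M : X.Modules, CohB1.IsAmple M := by
  obtain ⟨N, hN⟩ := hS
  obtain ⟨n, hn⟩ := TMul.exists_isAmple_tensor_pullback f h hN
  exact ⟨_, hn n le_rfl⟩

theorem isProper_toBase (n : ℕ) : IsProper (CohB1.ProjSpaceOver.toBase n S) := by
  haveI := ProjMor.isProper_toSpec n (ULift.{u} ℤ)
  exact MorphismProperty.pullback_snd _ _ inferInstance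

theorem immersion_iff (hS : ∃ N : S.Modules, CohB1.IsAmple N) :
    (∃ (n : ℕ) (i : X ⟶ CohB1.ProjSpaceOver n S), IsImmersion i ∧ QuasiCompact i ∧ i ≫ CohB1.ProjSpaceOver.toBase n S = f) ↔
      (LocallyOfFiniteType f ∧ QuasiCompact f ∧ ∃ L : X.Modules, CohB1.IsAmple L) := by
  have hS' := hS
  obtain ⟨N, hN⟩ := hS'
  haveI := hN.2.1
  haveI := TMul.isSeparated_of_isAmple hN
  constructor
  · rintro ⟨n, i, hi, hqi, rfl⟩
    haveI := hi
    haveI := hqi
    haveI := isProper_toBase (S := S) n
    obtain ⟨-, -, L, hL⟩ := (S4414.result hS (i ≫ CohB1.ProjSpaceOver.toBase n S)).2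
      ⟨inferInstance, inferInstance, n, i, hi, rfl⟩
    exact ⟨inferInstance, inferInstance, exists_isAmple_of_isRelAmple _ hS hL⟩
  · rintro ⟨h₁, h₂, L, hL⟩
    haveI := h₂
    obtain ⟨-, -, n, i, hi, hif⟩ := (S4414.result hS f).1 ⟨h₁, h₂, L, isRelAmple_of_isAmple f hL⟩
    haveI := isProper_toBase (S := S) n
    haveI : QuasiCompact (i ≫ CohB1.ProjSpaceOver.toBase n S) := by rw [hif]; exact h₂
    exact ⟨n, i, hi, QuasiCompact.of_comp i (CohB1.ProjSpaceOver.toBase n S), hif⟩

theorem closedImmersion_iff (hS : ∃ N : S.Modules, CohB1.IsAmple N) :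
    (∃ (n : ℕ) (i : X ⟶ CohB1.ProjSpaceOver n S), IsClosedImmersion i ∧ i ≫ CohB1.ProjSpaceOver.toBase n S = f) ↔
      (IsProper f ∧ ∃ L : X.Modules, CohB1.IsAmple L) := by
  constructor
  · rintro ⟨n, i, hi, rfl⟩
    haveI := hi
    haveI := isProper_toBase (S := S) n
    exact ⟨inferInstance, ((immersion_iff _ hS).1 ⟨n, i, inferInstance, inferInstance, rfl⟩).2.2⟩
  · rintro ⟨hf, hL⟩
    haveI := hf
    obtain ⟨n, i, hi, -, hif⟩ := (immersion_iff f hS).2 ⟨inferInstance, inferInstance, hL⟩
    haveI := hi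
    haveI := isProper_toBase (S := S) n
    haveI : IsProper (i ≫ CohB1.ProjSpaceOver.toBase n S) := by rw [hif]; exact hf
    haveI : IsProper i := IsProper.of_comp i (CohB1.ProjSpaceOver.toBase n S)
    exact ⟨n, i, (IsClosedImmersion.iff_isProper_and_mono i).2 ⟨inferInstance, inferInstance⟩, hif⟩

theorem exists_isAmple_Spec (R : Type u) [CommRing R] : ∃ N : (Spec (CommRingCat.of R)).Modules, CohB1.IsAmple N :=
  ⟨_, TMul.isAmple_of_isQuasiAffine TMul.isInvertible_structureModule⟩

variable {k : Type u} [Field k] (p : X ⟶ Spec (CommRingCat.of k)) (K : Type u) [Field K] [Algebra k K]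

theorem quasiProj_descend (hlft : LocallyOfFiniteType (pullback.snd p (Spec.map (CommRingCat.ofHom (algebraMap k K)))))
    (L : (pullback p (Spec.map (CommRingCat.ofHom (algebraMap k K)))).Modules) (hL : CohB1.IsAmple L) :
    LocallyOfFiniteType p ∧ QuasiCompact p ∧ ∃ M : X.Modules, CohB1.IsAmple M := by
  letI : X.Over (Spec (CommRingCat.of k)) := ⟨p⟩
  obtain ⟨M, hM⟩ := FieldAmple.exists_isAmple k K X L hL
  haveI := hM.2.1
  haveI : Flat (Spec.map (CommRingCat.ofHom (algebraMap k K))) :=
    (HasRingHomProperty.Spec_iff (P := @Flat)).2 (RingHom.flat_algebraMap_iff.2 inferInstance)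
  haveI : Surjective (Spec.map (CommRingCat.ofHom (algebraMap k K))) :=
    ⟨fun y => PrimeSpectrum.comap_surjective_of_faithfullyFlat (B := K) y⟩
  exact ⟨MorphismProperty.of_isPullback_of_descendsAlong (P := @LocallyOfFiniteType)
    (Q := @Surjective ⊓ @Flat ⊓ @QuasiCompact) (CategoryTheory.IsPullback.of_hasPullback _ _).flip
    ⟨⟨inferInstance, inferInstance⟩, inferInstance⟩ hlft, quasiCompact_of_compactSpace _, M, hM⟩

theorem immersion_descend
    (h : ∃ (n : ℕ) (i : pullback p (Spec.map (CommRingCat.ofHom (algebraMap k K))) ⟶ CohB1.ProjSpaceOver n (Spec (CommRingCat.of K))),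
      IsImmersion i ∧ i ≫ CohB1.ProjSpaceOver.toBase n (Spec (CommRingCat.of K)) = pullback.snd p (Spec.map (CommRingCat.ofHom (algebraMap k K)))) :
    ∃ (n : ℕ) (i : X ⟶ CohB1.ProjSpaceOver n (Spec (CommRingCat.of k))),
      IsImmersion i ∧ i ≫ CohB1.ProjSpaceOver.toBase n (Spec (CommRingCat.of k)) = p := by
  obtain ⟨n, i, hi, hif⟩ := h
  haveI := hi
  haveI := isProper_toBase (S := Spec (CommRingCat.of K)) n
  haveI : IsLocallyNoetherian (CohB1.ProjSpaceOver n (Spec (CommRingCat.of K))) :=
    LocallyOfFiniteType.isLocallyNoetherian (CohB1.ProjSpaceOver.toBase n (Spec (CommRingCat.of K)))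
  haveI : CompactSpace (CohB1.ProjSpaceOver n (Spec (CommRingCat.of K))) :=
    QuasiCompact.compactSpace_of_compactSpace (CohB1.ProjSpaceOver.toBase n (Spec (CommRingCat.of K)))
  haveI : IsNoetherian (CohB1.ProjSpaceOver n (Spec (CommRingCat.of K))) := {}
  haveI : TopologicalSpace.NoetherianSpace (pullback p (Spec.map (CommRingCat.ofHom (algebraMap k K))) : Scheme.{u}) :=
    i.isEmbedding.isInducing.noetherianSpace
  haveI : QuasiCompact i := ⟨fun U _ _ => TopologicalSpace.NoetherianSpace.isCompact _⟩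
  obtain ⟨h₁, -, L, hL⟩ := (immersion_iff _ (exists_isAmple_Spec K)).1 ⟨n, i, hi, inferInstance, hif⟩
  obtain ⟨m, j, hj, -, hjf⟩ := (immersion_iff p (exists_isAmple_Spec k)).2 (quasiProj_descend p K h₁ L hL)
  exact ⟨m, j, hj, hjf⟩

theorem closedImmersion_descend
    (h : ∃ (n : ℕ) (i : pullback p (Spec.map (CommRingCat.ofHom (algebraMap k K))) ⟶ CohB1.ProjSpaceOver n (Spec (CommRingCat.of K))),
      IsClosedImmersion i ∧ i ≫ CohB1.ProjSpaceOver.toBase n (Spec (CommRingCat.of K)) = pullback.snd p (Spec.map (CommRingCat.ofHom (algebraMap k K)))) :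
    ∃ (n : ℕ) (i : X ⟶ CohB1.ProjSpaceOver n (Spec (CommRingCat.of k))),
      IsClosedImmersion i ∧ i ≫ CohB1.ProjSpaceOver.toBase n (Spec (CommRingCat.of k)) = p := by
  obtain ⟨hp, L, hL⟩ := (closedImmersion_iff _ (exists_isAmple_Spec K)).1 h
  haveI := hp
  obtain ⟨hlft, hqc, M, hM⟩ := quasiProj_descend p K inferInstance L hL
  haveI := hlft
  haveI := hqc
  haveI : IsSeparated p := by
    haveI := TMul.isSeparated_of_isAmple hM
    haveI : IsSeparated (p ≫ terminal.from (Spec (CommRingCat.of k))) := by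
      rw [terminal.comp_from]; infer_instance
    exact IsSeparated.of_comp p (terminal.from (Spec (CommRingCat.of k)))
  haveI : Flat (Spec.map (CommRingCat.ofHom (algebraMap k K))) :=
    (HasRingHomProperty.Spec_iff (P := @Flat)).2 (RingHom.flat_algebraMap_iff.2 inferInstance)
  haveI : Surjective (Spec.map (CommRingCat.ofHom (algebraMap k K))) :=
    ⟨fun y => PrimeSpectrum.comap_surjective_of_faithfullyFlat (B := K) y⟩
  haveI : UniversallyClosed p := MorphismProperty.of_isPullback_of_descendsAlong (P := @UniversallyClosed)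
    (Q := @Surjective ⊓ @Flat ⊓ @QuasiCompact)
    (CategoryTheory.IsPullback.of_hasPullback p (Spec.map (CommRingCat.ofHom (algebraMap k K)))).flip
    ⟨⟨inferInstance, inferInstance⟩, inferInstance⟩ inferInstance
  exact (closedImmersion_iff p (exists_isAmple_Spec k)).2 ⟨{}, M, hM⟩

end Groth.Agent.QProjRows
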